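import Mathlib
import Cfsg.Agent.GenExc.LeviQs

/-!
# Elements of odd order centralizing the involutions `h_i(-1)` of the torus lie in the torus (helper631)

`R : RGD cs h p T n X` a root group datum, `z i ∈ T` (`i ∈ I`) such that `z i` centralizes `X x` if
`⟨x, α_i^∨⟩` is even, and no nontrivial element of `X x` otherwise; every root has an odd Cartan integer with some
simple root.

* `eq_one_of_modTwo` : an element `w` of odd order with all `⟨w α_j - α_j, α_i^∨⟩` even is `1`;
* `mem_T_of_commute` : an element of odd order commuting with all `z i` lies in `T`.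
-/

set_option autoImplicit false
set_option linter.unusedSectionVars false

namespace Cfsg.Agent.H631

open CoxeterSystem Cfsg.Agent.ChevalleyStructure.CoxeterGeom Cfsg.Agent.Tits.Roots Cfsg.Agent.Tits.Core
  Cfsg.Agent.Tits.Exchange Cfsg.Agent.Nodes.Reps Cfsg.Agent.Nodes.BNOf Cfsg.Agent.Nodes.StabComb
  Cfsg.Agent.Nodes.Bruhat Cfsg.Agent.Nodes.OppDec Cfsg.Agent.Nodes.RGDLib Cfsg.Agent.GenExc

section Lin

/-- An endomorphism `f ≡ 1 mod 2` of a lattice with `f ^ N = 1`, `N` odd, is `1`. -/
theorem end_eq_one_of_mod_two {I : Type*} [Fintype I] [DecidableEq I] (f : Module.End ℤ (I → ℤ)) {N : ℕ}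
    (hN : Odd N) (hf : f ^ N = 1) (h2 : ∀ x, ∃ u, f x - x = (2 : ℤ) • u) : f = 1 := by
  set G : Module.End ℤ (I → ℤ) := f - 1 with hG
  have hfG : f = 1 + G := by rw [hG]; abel
  -- expansion
  obtain ⟨k, hk⟩ : ∃ k : Polynomial ℤ, (1 + Polynomial.X : Polynomial ℤ) ^ N =
      1 + (N : Polynomial ℤ) * Polynomial.X + k * Polynomial.X ^ 2 := by
    obtain ⟨k, hk⟩ := Polynomial.powAddExpansion (1 : Polynomial ℤ) Polynomial.X N
    exact ⟨k, by rw [hk, one_pow, one_pow, mul_one]⟩
  have hexp : (0 : Module.End ℤ (I → ℤ)) = (N : Module.End ℤ (I → ℤ)) * G + (Polynomial.aeval G k) * G ^ 2 := by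
    have h1 := congrArg (Polynomial.aeval G) hk
    simp only [map_pow, map_add, map_one, Polynomial.aeval_X, map_mul, map_natCast] at h1
    rw [← hfG, hf, add_assoc] at h1
    exact (left_eq_add.1 h1).symm
  have key : ∀ k : ℕ, ∀ x, ∃ u, G x = (2 : ℤ) ^ (k + 1) • u := by
    intro m
    induction m with
    | zero =>
      intro x
      obtain ⟨u, hu⟩ := h2 x
      exact ⟨u, by rw [hG, LinearMap.sub_apply, Module.End.one_apply, hu, zero_add, pow_one]⟩
    | succ m ih =>
      intro x
      obtain ⟨u, hu⟩ := ih x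
      obtain ⟨v, hv⟩ := ih u
      obtain ⟨c, hc⟩ := hN
      have h1 := LinearMap.congr_fun hexp x
      rw [LinearMap.zero_apply, LinearMap.add_apply, Module.End.mul_apply, Module.End.mul_apply, pow_two,
        Module.End.mul_apply, hu, map_smul G, hv, Module.End.natCast_apply, smul_smul, ← pow_add,
        map_smul (Polynomial.aeval G k)] at h1
      refine ⟨-((c : ℤ) • u) - (2 : ℤ) ^ m • (Polynomial.aeval G k v), ?_⟩
      rw [hu]
      have h3 : (N • ((2 : ℤ) ^ (m + 1) • u)) = (2 * c : ℤ) • ((2 : ℤ) ^ (m + 1) • u) + (2 : ℤ) ^ (m + 1) • u := by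
        rw [hc, ← Nat.cast_smul_eq_nsmul ℤ]
        push_cast
        rw [add_smul, one_smul]
      rw [h3] at h1
      have h4 : (2 : ℤ) ^ (m + 1) • u = -((2 * c : ℤ) • ((2 : ℤ) ^ (m + 1) • u)) -
          (2 : ℤ) ^ (m + 1 + (m + 1)) • (Polynomial.aeval G k v) := by
        generalize (2 * c : ℤ) • ((2 : ℤ) ^ (m + 1) • u) = a at h1 ⊢
        generalize (2 : ℤ) ^ (m + 1 + (m + 1)) • (Polynomial.aeval G k v) = b at h1 ⊢
        generalize (2 : ℤ) ^ (m + 1) • u = d at h1 ⊢
        have : d = 0 - a - b := by rw [h1]; abel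
        rw [this]; abel
      rw [h4, smul_sub, smul_neg, smul_smul, smul_smul, smul_smul]
      congr 2
      · ring
      · congr 1
        ring
  have hG0 : G = 0 := by
    refine LinearMap.ext fun x => ?_
    rw [LinearMap.zero_apply]
    funext j
    by_contra hne
    obtain ⟨u, hu⟩ := key (G x j).natAbs x
    have h1 : (2 : ℤ) ^ ((G x j).natAbs + 1) ∣ G x j :=
      Dvd.intro (u j) (by rw [← smul_eq_mul, ← Pi.smul_apply, ← hu])
    have h3 := Int.natAbs_dvd_natAbs.2 h1
    rw [Int.natAbs_pow] at h3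
    have h4 := Nat.le_of_dvd (Int.natAbs_pos.2 hne) h3
    have h5 : (G x j).natAbs + 1 < (Int.natAbs 2) ^ ((G x j).natAbs + 1) := Nat.lt_two_pow_self
    omega
  rw [hfG, hG0, add_zero]

end Lin

variable {I W Y : Type*} [Fintype I] [DecidableEq I] [Group W] [Group Y] {M : CoxeterMatrix I}
  {cs : CoxeterSystem M W} {A : I → I → ℤ} {h : IsCartan M A} {p : ℕ} {T : Subgroup Y} {n : I → Y}
  {X : (I → ℤ) → Subgroup Y}

/-- Vectors with even Cartan integers are fixed modulo `2`. -/
theorem rep_sub_even (cs : CoxeterSystem M W) (h : IsCartan M A) (v : I → ℤ) (hv : ∀ i, Even (pairing A i v)) (w : W) :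
    ∃ u, rep cs h w v - v = (2 : ℤ) • u := by
  obtain ⟨ω, rfl⟩ := cs.wordProd_surjective w
  induction ω with
  | nil => exact ⟨0, by rw [wordProd_nil, map_one, Module.End.one_apply, sub_self, smul_zero]⟩
  | cons i ω ih =>
    obtain ⟨u, hu⟩ := ih
    obtain ⟨c, hc⟩ := hv i
    refine ⟨rep cs h (cs.simple i) u - c • sr i, ?_⟩
    rw [wordProd_cons, rep_mul_apply]
    have h1 : rep cs h (cs.wordProd ω) v = v + (2 : ℤ) • u := by rw [← hu]; abel
    rw [h1, map_add, map_smul, rep_simple_eq (cs := cs) (h := h) i v, hc, smul_sub, smul_smul]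
    have h2 : (c + c) • sr i = (2 * c) • (sr i : I → ℤ) := by congr 1; ring
    rw [h2]
    abel

/-- **Minkowski**: an element of odd order of `W` acting trivially modulo `2` up to vectors with even Cartan integers
is `1`. -/
theorem eq_one_of_modTwo (cs : CoxeterSystem M W) (h : IsCartan M A) (w : W) {N : ℕ} (hN : Odd N) (hw : w ^ N = 1)
    (he : ∀ i j, Even (pairing A i (rep cs h w (sr j) - sr j))) : w = 1 := by
  set f := rep cs h w with hf
  have hfN : (f ^ 2) ^ N = 1 := by
    rw [← pow_mul, mul_comm, pow_mul, hf, ← map_pow, hw, map_one, one_pow]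
  have h1 : ∀ j, ∃ u, (f ^ 2) (sr j) - sr j = (2 : ℤ) • u := by
    intro j
    obtain ⟨u, hu⟩ := rep_sub_even cs h (f (sr j) - sr j) (fun i => he i j) w
    rw [← hf, map_sub] at hu
    refine ⟨f (sr j) - sr j + u, ?_⟩
    rw [smul_add, ← hu, pow_two, Module.End.mul_apply, two_smul]
    abel
  have h2 : ∀ x, ∃ u, (f ^ 2) x - x = (2 : ℤ) • u := by
    intro x
    choose u hu using h1
    refine ⟨∑ k, x k • u k, ?_⟩
    have h5 : x = ∑ k, x k • sr k := by
      funext k
      rw [Finset.sum_apply, Finset.sum_eq_single k (fun b _ hb => by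
        rw [Pi.smul_apply, sr_ne hb.symm, smul_zero]) (by simp), Pi.smul_apply, sr_self, smul_eq_mul,
        mul_one]
    conv_lhs => rw [h5]
    rw [map_sum, ← Finset.sum_sub_distrib, Finset.smul_sum]
    refine Finset.sum_congr rfl fun k _ => ?_
    rw [map_smul, ← smul_sub, hu, smul_comm]
  have h3 := end_eq_one_of_mod_two (f ^ 2) hN hfN h2
  have h4 : w ^ 2 = 1 := by
    apply rep_injective cs h
    rw [map_pow, ← hf, h3, map_one]
  obtain ⟨c, hc⟩ := hN
  rw [hc, pow_add, pow_mul, h4, one_pow, one_mul, pow_one] at hw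
  exact hw

theorem Rp.pow {N : NSys M T n} {w : W} {k : Y} (hk : Rp cs N w k) (m : ℕ) : Rp cs N (w ^ m) (k ^ m) := by
  induction m with
  | zero => rw [pow_zero, pow_zero]; exact rp_one
  | succ m ih => rw [pow_succ, pow_succ]; exact ih.mul hk

/-- different elements of `W` have different representatives -/
theorem eq_one_of_rp_one [Finite W] (R : RGD cs h p T n X) {w : W} {t : Y} (ht : t ∈ T) (hw : Rp cs R.nsys w t) :
    w = 1 := by
  have hw1 : Rp cs R.nsys w 1 := by
    have := hw.mul_mem_right (inv_mem ht)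
    rwa [mul_inv_cancel] at this
  refine eq_one_of_nonneg cs h w fun j => ?_
  have h1 := R.conj_rp hw1 (isRoot_sr cs h j)
  rw [cj_one] at h1
  have h2 := X_injective R (isRoot_sr cs h j) ((isRoot_sr cs h j).act w) h1
  change 0 ≤ rep cs h w (sr j)
  rw [← h2]
  exact sr_nonneg j

/-- The hypotheses on the involutions of the torus. -/
structure Invols (cs : CoxeterSystem M W) (h : IsCartan M A) (T : Subgroup Y) (X : (I → ℤ) → Subgroup Y)
    (z : I → Y) : Prop where
  mem : ∀ i, z i ∈ T
  even : ∀ i x, IsRoot cs h x → Even (pairing A i x) → ∀ u ∈ X x, z i * u = u * z i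
  odd : ∀ i x, IsRoot cs h x → ¬ Even (pairing A i x) → ∀ u ∈ X x, z i * u = u * z i → u = 1
  exists_odd : ∀ x, IsRoot cs h x → ∃ i, ¬ Even (pairing A i x)

/-- **An element of odd order commuting with all `z i` lies in the torus.** -/
theorem mem_T_of_commute [Finite W] (R : RGD cs h p T n X) (hG : GG cs h T X = ⊤) {z : I → Y}
    (hz : Invols cs h T X z) {y : Y} (hc : ∀ i, z i * y = y * z i) {N : ℕ} (hN : Odd N) (hy : y ^ N = 1) : y ∈ T := by
  set S : Set Y := Set.range z with hS
  have hST : S ⊆ T := by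
    rintro _ ⟨i, rfl⟩
    exact hz.mem i
  have hyS : y ∈ Subgroup.centralizer S := by
    rw [Subgroup.mem_centralizer_iff]
    rintro _ ⟨i, rfl⟩
    exact hc i
  obtain ⟨u, hu, w, k, hk, hkS, v, hv, e⟩ := Cfsg.Agent.Nodes.NormalForm.mem_centralizer R hST
    (by rw [hG]; trivial) hyS
  have hbot : RGD.Sup (fun x => X x ⊓ Subgroup.centralizer S) (RGD.Pos cs h) = ⊥ := by
    rw [eq_bot_iff]
    refine RGD.Sup_le fun x hx a ha => ?_
    obtain ⟨i, hi⟩ := hz.exists_odd x hx.1
    rw [Subgroup.mem_bot]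
    exact hz.odd i x hx.1 hi a ha.1 (Subgroup.mem_centralizer_iff.1 ha.2 _ ⟨i, rfl⟩)
  rw [hbot, Subgroup.mem_bot] at hu hv
  rw [hu, hv, one_mul, mul_one] at e
  subst e
  -- `w ^ N = 1`
  have hwN : w ^ N = 1 := by
    have h1 := Rp.pow hk N
    rw [hy] at h1
    exact eq_one_of_rp_one R (one_mem T) h1
  have hw1 : w = 1 := by
    refine eq_one_of_modTwo cs h w hN hwN fun i j => ?_
    have hj := isRoot_sr cs h j
    have hyz : y * z i = z i * y := (hc i).symm
    have h1 := R.conj_rp hk hj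
    have hpair : pairing A i (rep cs h w (sr j) - sr j) = pairing A i (rep cs h w (sr j)) - pairing A i (sr j) := by
      rw [sub_eq_add_neg, pairing_add, ← neg_one_smul ℤ (sr j), pairing_smul]
      ring
    rw [hpair, Int.even_sub]
    constructor
    · intro he
      by_contra hcon
      have hne := X_ne_bot R hj
      apply hne
      rw [eq_bot_iff]
      intro a ha
      rw [Subgroup.mem_bot]
      refine hz.odd i _ hj hcon a ha ?_
      have h2 : y * a * y⁻¹ ∈ X (rep cs h w (sr j)) := by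
        rw [← h1]; exact conj_mem_cj.2 ha
      have h3 := hz.even i _ (hj.act w) he _ h2
      have h4 : z i * a = y⁻¹ * (z i * (y * a * y⁻¹)) * y := by
        calc z i * a = y⁻¹ * (y * z i) * a := by group
          _ = y⁻¹ * (z i * y) * a := by rw [hc i]
          _ = y⁻¹ * (z i * (y * a * y⁻¹)) * y := by group
      have h5 : a * z i = y⁻¹ * (y * a * y⁻¹ * z i) * y := by
        have : z i * y = y * z i := hc i
        calc a * z i = y⁻¹ * (y * a * y⁻¹) * (y * z i) := by group
          _ = y⁻¹ * (y * a * y⁻¹) * (z i * y) := by rw [this]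
          _ = y⁻¹ * (y * a * y⁻¹ * z i) * y := by group
      rw [h4, h5, h3]
    · intro he
      by_contra hcon
      have hne := X_ne_bot R (hj.act w)
      apply hne
      rw [eq_bot_iff]
      intro a ha
      rw [Subgroup.mem_bot]
      refine hz.odd i _ (hj.act w) hcon a ha ?_
      have h2 : y⁻¹ * a * y ∈ X (sr j) := by
        rw [← h1, mem_cj] at ha; exact ha
      have h3 := hz.even i _ hj he _ h2
      have h4 : z i * a = y * (z i * (y⁻¹ * a * y)) * y⁻¹ := by
        calc z i * a = (z i * y) * (y⁻¹ * a * y) * y⁻¹ := by group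
          _ = (y * z i) * (y⁻¹ * a * y) * y⁻¹ := by rw [hc i]
          _ = y * (z i * (y⁻¹ * a * y)) * y⁻¹ := by group
      have h5 : a * z i = y * (y⁻¹ * a * y * z i) * y⁻¹ := by
        have h6 : y⁻¹ * z i = z i * y⁻¹ := by
          rw [inv_mul_eq_iff_eq_mul, ← mul_assoc, ← hc i, mul_inv_cancel_right]
        calc a * z i = y * (y⁻¹ * a * y) * (y⁻¹ * z i) := by group
          _ = y * (y⁻¹ * a * y) * (z i * y⁻¹) := by rw [h6]
          _ = y * (y⁻¹ * a * y * z i) * y⁻¹ := by group
      rw [h4, h5, h3]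
  subst hw1
  exact hk.mem_of_one

end Cfsg.Agent.H631
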