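import Mathlib
import Cfsg.Agent.H631.SLTwo

/-!
# S4603: matrix groups containing the sign matrices: `PSLₙ`, `PSUₙ`, `n ≥ 3`, odd characteristic
-/

set_option autoImplicit false
set_option linter.style.haveILetI false
set_option linter.unusedSectionVars false
open Cfsg

namespace Cfsg.Agent.H631

open Matrix

universe u

variable {F : Type} [Field F] {ι : Type} [Fintype ι] [DecidableEq ι]

/-- sign vector: `-1` at `i`, `k`. -/
def sg (F : Type) [Field F] (i k : ι) : ι → F := fun l => if l = i ∨ l = k then -1 else 1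

theorem sg_or (i k : ι) (l : ι) : sg F i k l = 1 ∨ sg F i k l = -1 := by
  unfold sg
  split_ifs
  · right; rfl
  · left; rfl

theorem prod_sg {i k : ι} (hik : i ≠ k) : ∏ l, sg F i k l = 1 := by
  have h1 : ∀ l, sg F i k l = (if l = i then (-1 : F) else 1) * (if l = k then (-1 : F) else 1) := by
    intro l
    unfold sg
    by_cases h1 : l = i
    · subst h1
      simp [hik]
    · by_cases h2 : l = k
      · subst h2
        simp [Ne.symm hik]
      · simp [h1, h2]
  simp only [h1, Finset.prod_mul_distrib, Finset.prod_ite_eq', Finset.mem_univ, if_true]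
  norm_num

/-- A matrix commuting with the sign matrices is diagonal. -/
theorem diag_of_commute (h2 : (2 : F) ≠ 0) (hι : 3 ≤ Fintype.card ι) (x : Matrix ι ι F)
    (hx : ∀ i k : ι, i ≠ k → diagonal (sg F i k) * x = x * diagonal (sg F i k)) :
    x = diagonal (fun i => x i i) := by
  ext i j
  by_cases hij : i = j
  · subst hij; simp
  · rw [diagonal_apply_ne _ hij]
    obtain ⟨k, hk⟩ : ∃ k : ι, k ∉ ({i, j} : Finset ι) := by
      by_contra hcon
      push Not at hcon
      have h3 : (Finset.univ : Finset ι) ⊆ {i, j} := fun k _ => hcon k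
      have h4 := Finset.card_le_card h3
      rw [Finset.card_univ] at h4
      have h5 : ({i, j} : Finset ι).card ≤ 2 := Finset.card_le_two
      omega
    simp only [Finset.mem_insert, Finset.mem_singleton, not_or] at hk
    have h3 := congrFun (congrFun (hx i k (Ne.symm hk.1)) i) j
    rw [diagonal_mul, mul_diagonal] at h3
    have h4 : sg F i k i = -1 := by simp [sg]
    have h5 : sg F i k j = 1 := by simp [sg, Ne.symm hij, Ne.symm hk.2]
    rw [h4, h5, mul_one, neg_one_mul] at h3
    have h6 : (2 : F) * x i j = 0 := by linear_combination -h3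
    exact (mul_eq_zero.mp h6).resolve_left h2

/-- the diagonal `(a, a⁻¹, 1, …)` -/
def dd (i0 i1 : ι) (a : F) : ι → F := fun l => if l = i0 then a else if l = i1 then a⁻¹ else 1

/-- the signed swap -/
def WW (F : Type) [Field F] (i0 i1 : ι) : Matrix ι ι F :=
  Equiv.Perm.permMatrix F (Equiv.swap i0 i1) * diagonal (fun l => if l = i0 then -1 else 1)

theorem WW_apply (i0 i1 : ι) (i j : ι) :
    WW F i0 i1 i j = (if Equiv.swap i0 i1 i = j then 1 else 0) * (if j = i0 then -1 else 1) := by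
  unfold WW
  rw [mul_diagonal]
  congr 1
  simp [Equiv.Perm.permMatrix, PEquiv.toMatrix_apply, Equiv.toPEquiv_apply, eq_comm]

theorem det_WW {i0 i1 : ι} (h : i0 ≠ i1) : (WW F i0 i1).det = 1 := by
  unfold WW
  rw [det_mul, Matrix.det_permutation, det_diagonal, Equiv.Perm.sign_swap h]
  simp

theorem WW_mul_dd {i0 i1 : ι} (h : i0 ≠ i1) {a : F} (ha : a ≠ 0) :
    WW F i0 i1 * diagonal (dd i0 i1 a) = diagonal (dd i0 i1 a⁻¹) * WW F i0 i1 := by
  ext i j
  rw [mul_diagonal, diagonal_mul, WW_apply, mul_comm (dd i0 i1 a⁻¹ i)]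
  by_cases hs : Equiv.swap i0 i1 i = j
  · have h1 : dd i0 i1 a j = dd i0 i1 a⁻¹ i := by
      rw [← hs]
      unfold dd
      by_cases hi0 : i = i0
      · subst hi0
        rw [Equiv.swap_apply_left]
        simp [Ne.symm h]
      · by_cases hi1 : i = i1
        · subst hi1
          rw [Equiv.swap_apply_right]
          simp [Ne.symm h]
        · rw [Equiv.swap_apply_of_ne_of_ne hi0 hi1]
          simp [hi0, hi1]
    rw [h1]
  · simp [hs]

theorem dd_mul_dd {i0 i1 : ι} {a b : F} (l : ι) : dd i0 i1 a l * dd i0 i1 b l = dd i0 i1 (a * b) l := by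
  unfold dd
  split_ifs
  · rfl
  · rw [mul_inv]
  · simp

theorem dd_one {i0 i1 : ι} : dd i0 i1 (1 : F) = 1 := by
  ext l
  unfold dd
  split_ifs <;> simp

theorem dd_pow {i0 i1 : ι} {a : F} (k : ℕ) : (dd i0 i1 a) ^ k = dd i0 i1 (a ^ k) := by
  ext l
  rw [Pi.pow_apply]
  unfold dd
  split_ifs
  · rfl
  · rw [inv_pow]
  · rw [one_pow]

/-- **Matrix groups containing the sign matrices.** -/
theorem bad_diag {H : Type u} [Group H] [Finite H] (φ : H →* Matrix ι ι F) (hφ : Function.Injective φ)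
    (h2 : (2 : F) ≠ 0) (hι : 3 ≤ Fintype.card ι) {i0 i1 : ι} (h01 : i0 ≠ i1)
    (hsgn : ∀ ε : ι → F, (∀ i, ε i = 1 ∨ ε i = -1) → ∏ i, ε i = 1 → ∃ a : H, φ a = diagonal ε)
    (hw : ∃ w : H, φ w = WW F i0 i1)
    (hdg : ∀ (x : H) (d : ι → F), φ x = diagonal d → ∀ i, ∃ y : H, φ y = diagonal (dd i0 i1 (d i)))
    (q : ℕ) [hq : Fact q.Prime] (hq2 : q ≠ 2) (hd : q ∣ Nat.card (H ⧸ Subgroup.center H)) :
    Bad q (H ⧸ Subgroup.center H) := by
  haveI : Fact (Nat.Prime 2) := ⟨Nat.prime_two⟩
  -- the sign group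
  let A : Subgroup H :=
    { carrier := {a | ∃ ε : ι → F, (∀ i, ε i = 1 ∨ ε i = -1) ∧ φ a = diagonal ε}
      one_mem' := ⟨1, fun i => Or.inl rfl, by rw [map_one, ← diagonal_one]; rfl⟩
      mul_mem' := by
        rintro a b ⟨ε, hε, ha⟩ ⟨δ, hδ, hb⟩
        refine ⟨fun i => ε i * δ i, fun i => ?_, by rw [map_mul, ha, hb, diagonal_mul_diagonal]⟩
        rcases hε i with h | h <;> rcases hδ i with h' | h' <;> simp [h, h']
      inv_mem' := by
        rintro a ⟨ε, hε, ha⟩
        refine ⟨ε, hε, ?_⟩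
        have h1 : φ a * φ a = 1 := by
          rw [ha, diagonal_mul_diagonal, ← diagonal_one]
          congr 1
          ext i
          rcases hε i with h | h <;> simp [h]
        have h3 : a * a = 1 := hφ (by rw [map_mul, h1, map_one])
        rw [← ha, inv_eq_of_mul_eq_one_left h3] }
  have hA : IsPGroup 2 A := by
    intro a
    refine ⟨1, ?_⟩
    obtain ⟨ε, hε, ha⟩ := a.2
    apply Subtype.ext
    apply hφ
    rw [pow_one, pow_two, Subgroup.coe_mul, map_mul, ha, diagonal_mul_diagonal, Subgroup.coe_one, map_one,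
      ← diagonal_one]
    congr 1
    ext i
    rcases hε i with h | h <;> simp [h]
  refine bad_quot q hq2 (Subgroup.center H) le_rfl hd A hA ?_
  rintro x ⟨k, hk⟩ hc hx1
  have hqodd : Odd q := hq.out.odd_of_ne_two hq2
  -- `x` is diagonal
  have hx : φ x = diagonal (fun i => φ x i i) := by
    apply diag_of_commute h2 hι
    intro i j hij
    obtain ⟨a, ha⟩ := hsgn (sg F i j) (sg_or i j) (prod_sg hij)
    rw [← ha, ← map_mul, hc a ⟨sg F i j, sg_or i j, ha⟩, map_mul]
  set d : ι → F := fun i => φ x i i with hdd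
  have hpow : ∀ i, d i ^ (q ^ k) = 1 := by
    intro i
    have h3 : φ x ^ (q ^ k) = 1 := by rw [← map_pow, ← hk, pow_orderOf_eq_one, map_one]
    rw [hx, diagonal_pow] at h3
    have h4 := congrFun (congrFun h3 i) i
    simpa using h4
  obtain ⟨i, hi⟩ : ∃ i, d i ≠ 1 := by
    by_contra hcon
    push Not at hcon
    apply hx1
    apply hφ
    rw [hx, map_one, ← diagonal_one]
    congr 1
    ext i
    exact hcon i
  have hi0 : d i ≠ 0 := by
    intro h
    have := hpow i
    rw [h, zero_pow (pow_pos hq.out.pos k).ne'] at this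
    exact zero_ne_one this
  obtain ⟨y, hy⟩ := hdg x d hx i
  obtain ⟨w, hw⟩ := hw
  have hypow : y ^ (q ^ k) = 1 := by
    apply hφ
    rw [map_pow, hy, diagonal_pow, dd_pow, hpow i, dd_one, map_one, ← diagonal_one]
    rfl
  have hyinv : φ y⁻¹ = diagonal (dd i0 i1 (d i)⁻¹) := by
    have h3 : φ y * diagonal (dd i0 i1 (d i)⁻¹) = 1 := by
      rw [hy, diagonal_mul_diagonal, ← diagonal_one]
      congr 1
      ext l
      rw [dd_mul_dd, mul_inv_cancel₀ hi0, dd_one]
      rfl
    calc φ y⁻¹ = φ y⁻¹ * (φ y * diagonal (dd i0 i1 (d i)⁻¹)) := by rw [h3, mul_one]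
      _ = (φ y⁻¹ * φ y) * diagonal (dd i0 i1 (d i)⁻¹) := by rw [mul_assoc]
      _ = _ := by rw [← map_mul, inv_mul_cancel, map_one, one_mul]
  have hwy : w * y = y⁻¹ * w := by
    apply hφ
    rw [map_mul, map_mul, hw, hy, hyinv, WW_mul_dd h01 hi0]
  have hyord : ∃ k : ℕ, orderOf y = q ^ k := by
    obtain ⟨j, -, hj⟩ := (Nat.dvd_prime_pow hq.out).mp (orderOf_dvd_of_pow_eq_one hypow)
    exact ⟨j, hj⟩
  refine ⟨y, ?_, hyord, ?_⟩
  · intro hyc
    have h3 := Subgroup.mem_center_iff.mp hyc w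
    rw [hwy] at h3
    have h4 : y⁻¹ = y := mul_right_cancel h3
    have h5 : y ^ 2 = 1 := by
      rw [pow_two]
      nth_rewrite 1 [← h4]
      exact inv_mul_cancel y
    obtain ⟨j, hj⟩ := hyord
    have h6 : orderOf y ∣ 2 := orderOf_dvd_of_pow_eq_one h5
    have h7 : orderOf y = 1 := by
      rcases (Nat.dvd_prime Nat.prime_two).mp h6 with h8 | h8
      · exact h8
      · exfalso
        rw [hj] at h8
        have h9 : Odd (q ^ j) := hqodd.pow
        rw [h8] at h9
        exact (Nat.not_even_iff_odd.mpr h9) even_two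
    have h8 : y = 1 := orderOf_eq_one_iff.mp h7
    rw [h8, map_one, ← diagonal_one] at hy
    have h9 := congrFun (diagonal_injective hy) i0
    simp [dd] at h9
    exact hi h9.symm
  · rw [isConj_iff]
    exact ⟨w, by rw [hwy]; group⟩

end Cfsg.Agent.H631
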