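import Mathlib
import Cfsg.Agent.H631.SLTwo

/-!
# S4603: `PSp₂ₘ(F)`, `|F|` odd
-/

set_option autoImplicit false
set_option linter.style.haveILetI false
set_option linter.unusedSectionVars false
open Cfsg

namespace Cfsg.Agent.H631

open Matrix

universe u

/-- A nontrivial real element of odd prime power order is not central. -/
theorem notMem_of_real {H : Type u} [Group H] {q : ℕ} (hq : q.Prime) (hq2 : q ≠ 2) {Z : Subgroup H}
    (hZ : Z ≤ Subgroup.center H) {y : H} (hy1 : y ≠ 1) (hy : ∃ k : ℕ, orderOf y = q ^ k) (hr : IsConj y y⁻¹) :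
    y ∉ Z := by
  intro hyZ
  obtain ⟨g, hg⟩ := isConj_iff.mp hr
  have h1 := Subgroup.mem_center_iff.mp (hZ hyZ) g
  have h2 : y = y⁻¹ := by
    rw [← hg, h1]; group
  have h5 : y ^ 2 = 1 := by
    rw [pow_two]
    nth_rewrite 1 [h2]
    exact inv_mul_cancel y
  obtain ⟨j, hj⟩ := hy
  have h6 : orderOf y ∣ 2 := orderOf_dvd_of_pow_eq_one h5
  rcases (Nat.dvd_prime Nat.prime_two).mp h6 with h8 | h8
  · exact hy1 (orderOf_eq_one_iff.mp h8)
  · rw [hj] at h8
    have h9 : Odd (q ^ j) := (hq.odd_of_ne_two hq2).pow
    rw [h8] at h9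
    exact (Nat.not_even_iff_odd.mpr h9) even_two

variable {F : Type} [Field F] [Fintype F] {m : ℕ}

/-- block matrices -/
def bl (s : Fin m → Matrix (Fin 2) (Fin 2) F) : Matrix (Fin m ⊕ Fin m) (Fin m ⊕ Fin m) F :=
  fromBlocks (diagonal fun i => s i 0 0) (diagonal fun i => s i 0 1) (diagonal fun i => s i 1 0)
    (diagonal fun i => s i 1 1)

theorem bl_mul (s t : Fin m → Matrix (Fin 2) (Fin 2) F) : bl (fun i => s i * t i) = bl s * bl t := by
  unfold bl
  rw [fromBlocks_multiply]
  simp only [diagonal_mul_diagonal, diagonal_add, Matrix.mul_apply, Fin.sum_univ_two]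

theorem bl_one : bl (fun _ : Fin m => (1 : Matrix (Fin 2) (Fin 2) F)) = 1 := by
  unfold bl
  rw [← fromBlocks_one]
  congr 1 <;> (ext i j; simp [diagonal_apply, Matrix.one_apply])

theorem bl_inj {s t : Fin m → Matrix (Fin 2) (Fin 2) F} (h : bl s = bl t) : s = t := by
  unfold bl at h
  rw [fromBlocks_inj] at h
  obtain ⟨h1, h2, h3, h4⟩ := h
  have h1 := diagonal_injective h1
  have h2 := diagonal_injective h2
  have h3 := diagonal_injective h3
  have h4 := diagonal_injective h4
  funext i
  ext a b
  fin_cases a <;> fin_cases b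
  · exact congrFun h1 i
  · exact congrFun h2 i
  · exact congrFun h3 i
  · exact congrFun h4 i

theorem bl_mem (s : Fin m → Matrix (Fin 2) (Fin 2) F) :
    bl s ∈ symplecticGroup (Fin m) F ↔ ∀ i, (s i).det = 1 := by
  rw [SymplecticGroup.mem_iff]
  unfold bl J
  rw [fromBlocks_transpose, fromBlocks_multiply, fromBlocks_multiply]
  simp only [Matrix.mul_zero, Matrix.mul_neg, Matrix.mul_one, zero_add, add_zero, diagonal_transpose, Matrix.neg_mul,
    diagonal_mul_diagonal]
  rw [fromBlocks_inj]
  constructor
  · rintro ⟨-, -, h, -⟩ i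
    have h1 := congrFun (congrFun h i) i
    simp only [Matrix.add_apply, Matrix.neg_apply, diagonal_apply_eq, Matrix.one_apply_eq] at h1
    rw [det_fin_two]
    linear_combination h1
  · intro h
    refine ⟨?_, ?_, ?_, ?_⟩
    · ext i j
      by_cases hij : i = j
      · subst hij; simp; ring
      · simp [hij]
    · ext i j
      by_cases hij : i = j
      · subst hij
        have := h i
        rw [det_fin_two] at this
        simp
        linear_combination -this
      · simp [hij]
    · ext i j
      by_cases hij : i = j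
      · subst hij
        have := h i
        rw [det_fin_two] at this
        simp
        linear_combination this
      · simp [hij]
    · ext i j
      by_cases hij : i = j
      · subst hij; simp; ring
      · simp [hij]

/-- the homomorphism `SL₂(F)^m → Sp₂ₘ(F)` -/
def PsiSp : (Fin m → SpecialLinearGroup (Fin 2) F) →* symplecticGroup (Fin m) F where
  toFun s := ⟨bl (fun i => (s i).1), (bl_mem _).mpr fun i => (s i).2⟩
  map_one' := Subtype.ext bl_one
  map_mul' s t := Subtype.ext (bl_mul (fun i => (s i).1) (fun i => (t i).1))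

theorem PsiSp_injective : Function.Injective (PsiSp (F := F) (m := m)) := by
  intro s t h
  have h1 := bl_inj (congrArg Subtype.val h)
  funext i
  exact Subtype.ext (congrFun h1 i)

/-- the sign matrices -/
def sgn2 (ε : Fin m → F) : Matrix (Fin m ⊕ Fin m) (Fin m ⊕ Fin m) F := diagonal (Sum.elim ε ε)

theorem sgn2_eq_bl (ε : Fin m → F) : sgn2 ε = bl (fun i => diagonal (fun _ => ε i)) := by
  unfold sgn2 bl
  rw [← fromBlocks_diagonal]
  congr 1 <;> (ext i j; simp [diagonal_apply])

theorem sgn2_mem {ε : Fin m → F} (hε : ∀ i, ε i = 1 ∨ ε i = -1) : sgn2 ε ∈ symplecticGroup (Fin m) F := by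
  rw [sgn2_eq_bl, bl_mem]
  intro i
  rw [det_diagonal]
  rcases hε i with h | h <;> simp [h]

theorem sgn2_mul (ε δ : Fin m → F) : sgn2 ε * sgn2 δ = sgn2 (fun i => ε i * δ i) := by
  unfold sgn2
  rw [diagonal_mul_diagonal]
  congr 1
  ext i
  rcases i with i | i <;> simp

/-- a matrix commuting with the sign matrices has block form -/
theorem exists_bl (h2 : (2 : F) ≠ 0) (x : Matrix (Fin m ⊕ Fin m) (Fin m ⊕ Fin m) F)
    (hx : ∀ i : Fin m, sgn2 (fun l => if l = i then -1 else 1) * x = x * sgn2 (fun l => if l = i then -1 else 1)) :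
    ∃ s : Fin m → Matrix (Fin 2) (Fin 2) F, x = bl s := by
  refine ⟨fun i => !![x (.inl i) (.inl i), x (.inl i) (.inr i); x (.inr i) (.inl i), x (.inr i) (.inr i)], ?_⟩
  have key : ∀ a b : Fin m ⊕ Fin m, Sum.elim id id a ≠ Sum.elim id id b → x a b = 0 := by
    intro a b hab
    have h1 := congrFun (congrFun (hx (Sum.elim id id a)) a) b
    unfold sgn2 at h1
    rw [diagonal_mul, mul_diagonal] at h1
    have h3 : Sum.elim (fun l : Fin m => if l = Sum.elim id id a then (-1 : F) else 1)
        (fun l => if l = Sum.elim id id a then -1 else 1) a = -1 := by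
      rcases a with a | a <;> simp
    have h4 : Sum.elim (fun l : Fin m => if l = Sum.elim id id a then (-1 : F) else 1)
        (fun l => if l = Sum.elim id id a then -1 else 1) b = 1 := by
      rcases b with b | b <;> simp at hab ⊢ <;> intro h <;> exact absurd h.symm hab
    rw [h3, h4, mul_one, neg_one_mul] at h1
    have h6 : (2 : F) * x a b = 0 := by linear_combination -h1
    exact (mul_eq_zero.mp h6).resolve_left h2
  unfold bl
  ext a b
  rcases a with a | a <;> rcases b with b | b
  · by_cases hab : a = b
    · subst hab; simp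
    · rw [fromBlocks_apply₁₁, diagonal_apply_ne _ hab]
      exact key _ _ (by simpa using hab)
  · by_cases hab : a = b
    · subst hab; simp
    · rw [fromBlocks_apply₁₂, diagonal_apply_ne _ hab]
      exact key _ _ (by simpa using hab)
  · by_cases hab : a = b
    · subst hab; simp
    · rw [fromBlocks_apply₂₁, diagonal_apply_ne _ hab]
      exact key _ _ (by simpa using hab)
  · by_cases hab : a = b
    · subst hab; simp
    · rw [fromBlocks_apply₂₂, diagonal_apply_ne _ hab]
      exact key _ _ (by simpa using hab)

theorem bad_psp (hm : 2 ≤ m) (hF : Odd (Fintype.card F)) (q : ℕ) [hq : Fact q.Prime] (hq2 : q ≠ 2)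
    (hd : q ∣ Nat.card (PSp m F)) : Bad q (PSp m F) := by
  have h2 := two_ne_zero_of_odd hF
  obtain ⟨p, hp⟩ := CharP.exists F
  haveI : Fact p.Prime := ⟨CharP.char_is_prime F p⟩
  haveI : Finite (symplecticGroup (Fin m) F) := inferInstance
  by_cases hqp : q = p
  · subst hqp
    -- the unipotent element
    let i0 : Fin m := ⟨0, by omega⟩
    let i1 : Fin m := ⟨1, by omega⟩
    have h01 : i0 ≠ i1 := by
      intro h
      have := congrArg Fin.val h
      simp [i0, i1] at this
    let B : Matrix (Fin m) (Fin m) F := Matrix.of fun i j => if (i = i0 ∧ j = i1) ∨ (i = i1 ∧ j = i0) then 1 else 0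
    have hBt : Bᵀ = B := by
      ext i j
      simp only [B, transpose_apply, Matrix.of_apply]
      congr 1
      apply propext
      constructor
      · rintro (⟨h1, h2⟩ | ⟨h1, h2⟩)
        · exact Or.inr ⟨h2, h1⟩
        · exact Or.inl ⟨h2, h1⟩
      · rintro (⟨h1, h2⟩ | ⟨h1, h2⟩)
        · exact Or.inr ⟨h2, h1⟩
        · exact Or.inl ⟨h2, h1⟩
    let U : Matrix (Fin m) (Fin m) F → Matrix (Fin m ⊕ Fin m) (Fin m ⊕ Fin m) F := fun C => fromBlocks 1 C 0 1
    have hU : ∀ C, Cᵀ = C → U C ∈ symplecticGroup (Fin m) F := by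
      intro C hC
      rw [SymplecticGroup.mem_iff]
      simp only [U]
      unfold J
      rw [fromBlocks_transpose, fromBlocks_multiply, fromBlocks_multiply]
      simp [hC]
    have hUmul : ∀ C D, U C * U D = U (C + D) := by
      intro C D
      simp only [U]
      rw [fromBlocks_multiply]
      simp [add_comm]
    have hUpow : ∀ n : ℕ, U B ^ n = U ((n : F) • B) := by
      intro n
      induction n with
      | zero => simp only [pow_zero, Nat.cast_zero, zero_smul, U, fromBlocks_one]
      | succ n ih =>
        rw [pow_succ, ih, hUmul]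
        congr 1
        push_cast
        rw [add_smul, one_smul]
    let y : symplecticGroup (Fin m) F := ⟨U B, hU B hBt⟩
    have hy1 : y ≠ 1 := by
      intro h
      have h3 := congrArg Subtype.val h
      have h4 := congrFun (congrFun h3 (.inl i0)) (.inr i1)
      simp [y, U, B] at h4
    have hypow : y ^ q = 1 := by
      apply Subtype.ext
      show U B ^ q = 1
      rw [hUpow, CharP.cast_eq_zero, zero_smul]
      simp only [U, fromBlocks_one]
    have hyord : orderOf y = q := orderOf_eq_prime hypow hy1
    have hyr : IsConj y y⁻¹ := by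
      let g : symplecticGroup (Fin m) F := ⟨sgn2 (fun l => if l = i0 then -1 else 1), sgn2_mem (fun l => by
        by_cases hl : l = i0 <;> simp [hl])⟩
      rw [isConj_iff]
      refine ⟨g, ?_⟩
      rw [mul_inv_eq_iff_eq_mul]
      have hinv : y⁻¹ = ⟨U (-B), hU (-B) (by rw [transpose_neg, hBt])⟩ := by
        rw [inv_eq_iff_mul_eq_one]
        apply Subtype.ext
        show U B * U (-B) = 1
        rw [hUmul, add_neg_cancel]
        simp only [U, fromBlocks_one]
      rw [hinv]
      apply Subtype.ext
      show sgn2 (fun l => if l = i0 then -1 else 1) * U B = U (-B) * sgn2 (fun l => if l = i0 then -1 else 1)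
      unfold sgn2
      ext a b
      rw [diagonal_mul, mul_diagonal]
      rcases a with a | a <;> rcases b with b | b
      · by_cases hab : a = b
        · subst hab; simp [U]
        · simp [U, hab]
      · simp only [U, fromBlocks_apply₁₂, Sum.elim_inl, Sum.elim_inr, B, Matrix.of_apply, Matrix.neg_apply]
        by_cases ha : a = i0
        · subst ha
          by_cases hb : b = i1
          · subst hb
            simp [Ne.symm h01]
          · simp [hb, h01]
        · by_cases hb : b = i0
          · subst hb
            by_cases ha1 : a = i1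
            · subst ha1
              simp [Ne.symm h01]
            · simp [ha1, h01]
          · simp [ha, hb]
      · simp [U]
      · by_cases hab : a = b
        · subst hab; simp [U]
        · simp [U, hab]
    exact bad_quot_of_real q hq2 (Subgroup.center _) y
      (notMem_of_real hq.out hq2 le_rfl hy1 ⟨1, by rw [hyord, pow_one]⟩ hyr) ⟨1, by rw [hyord, pow_one]⟩ hyr
  · let A : Subgroup (symplecticGroup (Fin m) F) :=
      { carrier := {a | ∃ ε : Fin m → F, (∀ i, ε i = 1 ∨ ε i = -1) ∧ a.1 = sgn2 ε}
        one_mem' := ⟨1, fun i => Or.inl rfl, by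
          show (1 : Matrix (Fin m ⊕ Fin m) (Fin m ⊕ Fin m) F) = sgn2 1
          unfold sgn2
          rw [← diagonal_one]
          congr 1
          ext i
          rcases i with i | i <;> rfl⟩
        mul_mem' := by
          rintro a b ⟨ε, hε, ha⟩ ⟨δ, hδ, hb⟩
          refine ⟨fun i => ε i * δ i, fun i => ?_, ?_⟩
          · rcases hε i with h | h <;> rcases hδ i with h' | h' <;> simp [h, h']
          · show a.1 * b.1 = _
            rw [ha, hb, sgn2_mul]
        inv_mem' := by
          rintro a ⟨ε, hε, ha⟩
          refine ⟨ε, hε, ?_⟩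
          have h3 : a * a = 1 := by
            apply Subtype.ext
            show a.1 * a.1 = 1
            rw [ha, sgn2_mul]
            have : (fun i => ε i * ε i) = fun _ => (1 : F) := by
              ext i
              rcases hε i with h | h <;> simp [h]
            rw [this]
            unfold sgn2
            rw [← diagonal_one]
            congr 1
            ext i
            rcases i with i | i <;> rfl
          rw [← ha, inv_eq_of_mul_eq_one_left h3] }
    have hA : IsPGroup 2 A := by
      intro a
      refine ⟨1, ?_⟩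
      obtain ⟨ε, hε, ha⟩ := a.2
      apply Subtype.ext
      apply Subtype.ext
      rw [pow_one, pow_two]
      show (a : symplecticGroup (Fin m) F).1 * (a : symplecticGroup (Fin m) F).1 = 1
      rw [ha, sgn2_mul]
      have : (fun i => ε i * ε i) = fun _ => (1 : F) := by
        ext i
        rcases hε i with h | h <;> simp [h]
      rw [this]
      unfold sgn2
      rw [← diagonal_one]
      congr 1
      ext i
      rcases i with i | i <;> rfl
    refine bad_quot q hq2 (Subgroup.center _) le_rfl hd A hA ?_
    rintro x ⟨k, hk⟩ hc hx1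
    obtain ⟨s, hs⟩ := exists_bl h2 x.1 (fun i => by
      have h3 : ∀ l, (if l = i then (-1 : F) else 1) = 1 ∨ (if l = i then (-1 : F) else 1) = -1 := by
        intro l
        by_cases hl : l = i <;> simp [hl]
      have h4 := hc ⟨_, sgn2_mem h3⟩ ⟨_, h3, rfl⟩
      exact congrArg Subtype.val h4)
    have hdet : ∀ i, (s i).det = 1 := by
      rw [← bl_mem, ← hs]; exact x.2
    let t : Fin m → SpecialLinearGroup (Fin 2) F := fun i => ⟨s i, hdet i⟩
    have hxt : x = PsiSp t := Subtype.ext hs
    have ht : t ^ (q ^ k) = 1 := by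
      apply PsiSp_injective
      rw [map_pow, ← hxt, map_one, ← hk, pow_orderOf_eq_one]
    obtain ⟨i, hi⟩ : ∃ i, t i ≠ 1 := by
      by_contra hcon
      push Not at hcon
      apply hx1
      have : t = 1 := funext hcon
      rw [hxt, this, map_one]
    have hti : (t i) ^ (q ^ k) = 1 := congrFun ht i
    have htord : ∃ k : ℕ, orderOf (t i) = q ^ k := by
      obtain ⟨j, -, hj⟩ := (Nat.dvd_prime_pow hq.out).mp (orderOf_dvd_of_pow_eq_one hti)
      exact ⟨j, hj⟩
    have htr := real_of_coprime hF q hq2 hqp (t i) htord
    let i0 : Fin m := ⟨0, by omega⟩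
    let E : SpecialLinearGroup (Fin 2) F →* symplecticGroup (Fin m) F :=
      PsiSp.comp (MonoidHom.mulSingle (fun _ : Fin m => SpecialLinearGroup (Fin 2) F) i0)
    have hE : Function.Injective E := PsiSp_injective.comp (fun a b h => Pi.mulSingle_injective (M := fun _ : Fin m => SpecialLinearGroup (Fin 2) F) i0 h)
    have hy1 : E (t i) ≠ 1 := by
      intro h
      exact hi (hE (by rw [h, map_one]))
    have hyord : ∃ k : ℕ, orderOf (E (t i)) = q ^ k := by
      obtain ⟨j, hj⟩ := htord
      exact ⟨j, by rw [orderOf_injective E hE, hj]⟩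
    have hyr : IsConj (E (t i)) (E (t i))⁻¹ := by
      rw [← map_inv]
      exact MonoidHom.map_isConj E htr
    exact ⟨E (t i), notMem_of_real hq.out hq2 le_rfl hy1 hyord hyr, hyord, hyr⟩

theorem bad_isPSp {X : Type u} [Group X] (hm : 2 ≤ m) (hF : Odd (Fintype.card F))
    (hX : Nonempty (X ≃* PSp m F)) (q : ℕ) [hq : Fact q.Prime] (hq2 : q ≠ 2)
    (hd : q ∣ Nat.card X) : Bad q X := by
  obtain ⟨e⟩ := hX
  rw [Nat.card_congr e.toEquiv] at hd
  exact (bad_psp hm hF q hq2 hd).congr e.symm

end Cfsg.Agent.H631
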