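import Cfsg.Agent.GpExc.Rank
import Cfsg.Agent.GpExc.Levi
import Cfsg.Agent.ChevalleyStructure.TwF4.TwGen

/-!
# Elements of order nine in the large Ree groups (helper631)

`²F₄(q)`, `q = 2^(2m+1)`, contains a copy of `SL₂(q)` (the `A₁ × A₁` class of roots), which has an element of order nine
as soon as `9 ∣ q + 1`.
-/

set_option autoImplicit false

namespace Cfsg.Agent.H631.TwF4Nine

open Cfsg Cfsg.Lie Matrix
open Cfsg.Agent.ChevalleyStructure Cfsg.Agent.ChevalleyStructure.Elts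
open Cfsg.Agent.ChevalleyStructure.SL2Rep Cfsg.Agent.ChevalleyStructure.SL2Hom
open Cfsg.Agent.ETable.Exc
open Cfsg.Agent.GpExc

universe u

/-! ### An element of order nine in `SL₂` -/

section SL

variable {F : Type u} [Field F]

/-- the matrix `up 1 * lo t` -/
def gg (t : F) : SpecialLinearGroup (Fin 2) F := up 1 * lo t

theorem coe_gg (t : F) : ((gg t : SpecialLinearGroup (Fin 2) F) : Matrix (Fin 2) (Fin 2) F) = !![1 + t, 1; t, 1] := by
  show (!![(1 : F), 1; 0, 1] * !![1, 0; t, 1] : Matrix (Fin 2) (Fin 2) F) = _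
  ext i j
  fin_cases i <;> fin_cases j <;> simp [Matrix.mul_apply, Fin.sum_univ_two]

theorem coe_gg_three (h2 : (2 : F) = 0) {t : F} (ht : t ^ 3 = t + 1) :
    (((gg t) ^ 3 : SpecialLinearGroup (Fin 2) F) : Matrix (Fin 2) (Fin 2) F) =
      !![t ^ 2 + t, t ^ 2 + 1; 1, t ^ 2 + t + 1] := by
  rw [Matrix.SpecialLinearGroup.coe_pow, coe_gg, pow_succ, pow_two]
  ext i j
  fin_cases i <;> fin_cases j <;> simp [Matrix.mul_apply, Fin.sum_univ_two]
  · linear_combination ht + (1 + 2 * t ^ 2 + 3 * t) * h2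
  · linear_combination (2 * t + 1 ) * h2
  · linear_combination ht + (2 * t ^ 2 + 2 * t) * h2
  · linear_combination (t ) * h2

theorem gg_three_ne {t : F} (h2 : (2 : F) = 0) (ht : t ^ 3 = t + 1) : (gg t) ^ 3 ≠ 1 := by
  intro h
  have h1 := coe_gg_three h2 ht
  rw [h] at h1
  have h3 := congrFun (congrFun h1 1) 0
  simp at h3

theorem gg_nine {t : F} (h2 : (2 : F) = 0) (ht : t ^ 3 = t + 1) : (gg t) ^ 9 = 1 := by
  have h1 : (gg t) ^ 9 = ((gg t) ^ 3) ^ 3 := by rw [← pow_mul]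
  rw [h1]
  have h3 : (!![t ^ 2 + t, t ^ 2 + 1; 1, t ^ 2 + t + 1] : Matrix (Fin 2) (Fin 2) F) *
      !![t ^ 2 + t, t ^ 2 + 1; 1, t ^ 2 + t + 1] = !![t ^ 2 + t, t ^ 2 + 1; 1, t ^ 2 + t + 1] + 1 := by
    ext i j
    fin_cases i <;> fin_cases j <;> simp [Matrix.mul_apply, Fin.sum_univ_two]
    · linear_combination t * ht + (t ^ 3 + t ^ 2) * h2
    · linear_combination (t ^ 2 + 1) * (t ^ 2 + t) * h2
    · linear_combination (t ^ 2 + t) * h2
    · linear_combination t * ht + (t ^ 3 + 2 * t ^ 2 + t) * h2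
  apply Subtype.ext
  rw [Matrix.SpecialLinearGroup.coe_pow, coe_gg_three h2 ht, pow_succ, pow_two, h3, add_mul, h3, one_mul,
    add_right_comm, ← two_smul F, h2, zero_smul, zero_add]
  rfl

end SL

/-! ### The `SL₂(q)` in `²F₄(q)` -/

theorem hF4 : InList chevF4 := by simp [InList]

theorem so33 : SO chevF4 33 24 := by decide +kernel

theorem lt24 : 24 < chevF4.nroots := by decide +kernel

theorem lt33 : 33 < chevF4.nroots := by decide +kernel

theorem neg24 : chevF4.neg 24 = 23 := by decide +kernel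

theorem neg33 : chevF4.neg 33 = 14 := by decide +kernel

section Emb

variable (K : Type u) [Field K]

/-- the homomorphism of a root -/
noncomputable def psi (r : ℕ) (hr : r < chevF4.nroots) : SpecialLinearGroup (Fin 2) K →* GL chevF4.Idx K :=
  (Subgroup.subtype ⊤).comp
    (Rank.psi hF4 hr (RingHom.id K) (H := ⊤) (fun _ => Subgroup.mem_top _) (fun _ => Subgroup.mem_top _))

theorem psi_up {r : ℕ} (hr : r < chevF4.nroots) (t : K) : psi K r hr (up t) = xG hF4 r t :=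
  Rank.psi_up hF4 hr (RingHom.id K) (H := ⊤) (fun _ => Subgroup.mem_top _) (fun _ => Subgroup.mem_top _) t

theorem psi_lo {r : ℕ} (hr : r < chevF4.nroots) (t : K) : psi K r hr (lo t) = xG hF4 (chevF4.neg r) t :=
  Rank.psi_lo hF4 hr (RingHom.id K) (H := ⊤) (fun _ => Subgroup.mem_top _) (fun _ => Subgroup.mem_top _) t

theorem psi_injective (h2 : (2 : K) = 0) {r : ℕ} (hr : r < chevF4.nroots) : Function.Injective (psi K r hr) :=
  fun _ _ h => Rank.psi_injective hF4 hr (RingHom.id K) (H := ⊤) (fun _ => Subgroup.mem_top _)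
    (fun _ => Subgroup.mem_top _) h2 (Subtype.ext h)

theorem psi_comm (g g' : SpecialLinearGroup (Fin 2) K) : Commute (psi K 33 lt33 g) (psi K 24 lt24 g') :=
  congrArg Subtype.val (Rank.psi_comm hF4 lt33 (RingHom.id K) (H := ⊤) (fun _ => Subgroup.mem_top _)
    (fun _ => Subgroup.mem_top _) lt24 (fun _ => Subgroup.mem_top _) (fun _ => Subgroup.mem_top _) so33 g g').eq

variable [CharP K 2] (m : ℕ)

/-- the diagonal homomorphism -/
noncomputable def Phi : SpecialLinearGroup (Fin 2) K →* GL chevF4.Idx K :=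
  ((psi K 33 lt33).noncommCoprod (psi K 24 lt24) (psi_comm K)).comp
    ((SpecialLinearGroup.map (iterateFrobenius K 2 m)).prod (MonoidHom.id _))

theorem Phi_apply (g : SpecialLinearGroup (Fin 2) K) :
    Phi K m g = psi K 33 lt33 (SpecialLinearGroup.map (iterateFrobenius K 2 m) g) * psi K 24 lt24 g := rfl

theorem xG_eq (r : ℕ) (t : K) : xG hF4 r t = TwF4.Rel.X r t := Units.ext rfl

theorem Phi_mem (g : SpecialLinearGroup (Fin 2) K) : Phi K m g ∈ twistedF4 K (2 ^ m) := by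
  have h1 : g ∈ (twistedF4 K (2 ^ m)).comap (Phi K m) := by
    refine (Subgroup.closure_le _).2 ?_ (mem_closure_SL2 g)
    rintro x (⟨t, rfl⟩ | ⟨t, rfl⟩)
    · show Phi K m (up t) ∈ twistedF4 K (2 ^ m)
      rw [Phi_apply, Rank.map_up, psi_up, psi_up, iterateFrobenius_def, xG_eq, xG_eq]
      exact TwF4.TwGen.pair_mem _ t
    · show Phi K m (lo t) ∈ twistedF4 K (2 ^ m)
      rw [Phi_apply, Rank.map_lo, psi_lo, psi_lo, iterateFrobenius_def, xG_eq, xG_eq, neg24, neg33]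
      exact TwF4.TwGen.pair_mem' _ t
  exact h1

theorem Phi_injective : Function.Injective (Phi K m) := by
  rw [injective_iff_map_eq_one]
  intro g hg
  have h2 : (2 : K) = 0 := CharTwo.two_eq_zero
  rw [Phi_apply] at hg
  have h3 : psi K 24 lt24 g = (psi K 33 lt33 (SpecialLinearGroup.map (iterateFrobenius K 2 m) g))⁻¹ :=
    eq_inv_of_mul_eq_one_right hg
  refine Levi.eq_one_of_central h2 fun l => psi_injective K h2 lt24 ?_
  rw [map_mul, map_mul, h3]
  exact ((psi_comm K _ l).inv_left).eq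

end Emb

/-! ### The element of order nine -/

theorem exists_nine {K : Type u} [Field K] [CharP K 2] {t : K} (ht : t ^ 3 = t + 1) (m : ℕ) :
    ∃ g : ↥(twistedF4 K (2 ^ m)), g ^ 9 = 1 ∧ g ^ 3 ≠ 1 := by
  have h2 : (2 : K) = 0 := CharTwo.two_eq_zero
  refine ⟨⟨Phi K m (gg t), Phi_mem K m _⟩, ?_, ?_⟩
  · apply Subtype.ext
    show (Phi K m (gg t)) ^ 9 = 1
    rw [← map_pow, gg_nine h2 ht, map_one]
  · intro h
    have h3 : (Phi K m (gg t)) ^ 3 = 1 := congrArg Subtype.val h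
    rw [← map_pow, ← map_one (Phi K m)] at h3
    exact gg_three_ne h2 ht (Phi_injective K m h3)

theorem exists_t {K : Type u} [Field K] [CharP K 2] {z : K} (hz : z ^ 7 = 1) (hz1 : z ≠ 1) :
    ∃ t : K, t ^ 3 = t + 1 := by
  have h2 : (2 : K) = 0 := CharTwo.two_eq_zero
  have h0 : z ≠ 0 := by rintro rfl; simp at hz
  have h3 : (z - 1) * ((z ^ 3 + z + 1) * (z ^ 3 + z ^ 2 + 1)) = 0 := by
    linear_combination hz + (z ^ 4 - z ^ 3) * h2
  rcases mul_eq_zero.1 h3 with h4 | h4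
  · exact absurd (sub_eq_zero.1 h4) hz1
  rcases mul_eq_zero.1 h4 with h5 | h5
  · exact ⟨z, by linear_combination h5 - (z + 1) * h2⟩
  · refine ⟨z⁻¹, ?_⟩
    field_simp
    linear_combination h5 - (z ^ 3 + z ^ 2) * h2

theorem three_dvd {n : ℕ} (h : 9 ∣ 2 ^ n + 1) : 3 ∣ n := by
  have h1 : n = 6 * (n / 6) + n % 6 := (Nat.div_add_mod n 6).symm
  have h2 : 2 ^ n % 9 = 2 ^ (n % 6) % 9 := by
    conv_lhs => rw [h1]
    rw [pow_add, pow_mul, Nat.mul_mod, Nat.pow_mod]
    norm_num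
  have h3 : n % 6 < 6 := Nat.mod_lt _ (by norm_num)
  have h4 : (2 ^ n + 1) % 9 = 0 := Nat.mod_eq_zero_of_dvd h
  rw [Nat.add_mod, h2] at h4
  generalize hk : n % 6 = k at h3 h4
  interval_cases k <;> simp at h4
  omega

theorem exists_nine_of_card {K : Type u} [Field K] [Fintype K] {m : ℕ} (hK : Fintype.card K = 2 ^ (2 * m + 1))
    (h9 : 9 ∣ 2 ^ (2 * m + 1) + 1) : ∃ g : ↥(twistedF4 K (2 ^ m)), g ^ 9 = 1 ∧ g ^ 3 ≠ 1 := by
  classical
  have : CharP K 2 := by
    have : Fact (Nat.Prime 2) := ⟨Nat.prime_two⟩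
    exact charP_of_card_eq_prime_pow hK
  obtain ⟨k, hk⟩ := three_dvd h9
  have h7 : 7 ∣ Fintype.card Kˣ := by
    rw [Fintype.card_units, hK, hk, pow_mul]
    have h8 := Nat.sub_dvd_pow_sub_pow (2 ^ 3) 1 k
    rw [one_pow] at h8
    exact h8
  have : Fact (Nat.Prime 7) := ⟨by norm_num⟩
  obtain ⟨z, hz⟩ := exists_prime_orderOf_dvd_card 7 h7
  have hz7 : z ^ 7 = 1 := by rw [← hz]; exact pow_orderOf_eq_one z
  have hz7' : (z : K) ^ 7 = 1 := by rw [← Units.val_pow_eq_pow_val, hz7, Units.val_one]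
  obtain ⟨t, ht⟩ := exists_t hz7' (fun h => by
      have h1 : z = 1 := Units.ext h
      rw [h1, orderOf_one] at hz
      norm_num at hz)
  exact exists_nine ht m

end Cfsg.Agent.H631.TwF4Nine
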