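import Cfsg.Agent.GpExc.Rank
import Cfsg.Agent.ChevalleyStructure.WeylConj
import Cfsg.Agent.ChevalleyStructure.E6Fixed
import Cfsg.Agent.ChevalleyStructure.NPerm
import Cfsg.Agent.H573.Spor.Norm

/-!
# `NormP 3` for the groups `F₄(q)`, `E₆(q)`, `²E₆(q)`, `E₇(q)`, `E₈(q)`, `3 ∤ q` (helper631)

Three orthogonal roots `b₁, b₂, b₃` permuted by an element `n` of `N` of order three: `SL₂(q) ≀ Z₃`, which contains
`a₁ n` of order nine, normalised but not centralised by `a₂ a₃²`.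
-/

set_option autoImplicit false

namespace Cfsg.Agent.H631.Wreath

open Cfsg Cfsg.Lie Matrix
open Cfsg.Agent.ChevalleyStructure Cfsg.Agent.ChevalleyStructure.Elts Cfsg.Agent.ChevalleyStructure.WeylConj
open Cfsg.Agent.ChevalleyStructure.SL2Rep Cfsg.Agent.ChevalleyStructure.SL2Hom
open Cfsg.Agent.ETable.Exc Cfsg.Agent.H573
open Cfsg.Agent.GpExc

universe u

/-! ### The abstract statement -/

theorem normP_of_wreath {Γ : Type*} [Group Γ] {n a : Γ} (hn : n ^ 3 = 1) (ha : a ^ 3 = 1)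
    (hc : Commute a (n * a * n⁻¹)) (hz : a * (n * a * n⁻¹) * (n * (n * a * n⁻¹) * n⁻¹) ≠ 1) : NormP 3 Γ := by
  obtain ⟨b, hb⟩ : ∃ b, b = n * a * n⁻¹ := ⟨_, rfl⟩
  obtain ⟨c, hc0⟩ : ∃ c, c = n * b * n⁻¹ := ⟨_, rfl⟩
  rw [← hb] at hc hz
  rw [← hc0] at hz
  have hnc : n * c * n⁻¹ = a := by
    have h1 : n * c * n⁻¹ = n ^ 3 * a * (n ^ 3)⁻¹ := by
      rw [hc0, hb]; simp only [pow_succ, pow_zero, one_mul]; group
    rw [h1, hn]; group
  have hbc : Commute b c := by
    have h1 := hc.map (MulAut.conj n).toMonoidHom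
    have h2 : (MulAut.conj n).toMonoidHom a = b := hb.symm
    have h3 : (MulAut.conj n).toMonoidHom b = c := hc0.symm
    rwa [h2, h3] at h1
  have hca : Commute c a := by
    have h1 := hbc.map (MulAut.conj n).toMonoidHom
    have h2 : (MulAut.conj n).toMonoidHom b = c := hc0.symm
    have h3 : (MulAut.conj n).toMonoidHom c = a := hnc
    rwa [h2, h3] at h1
  have hb3 : b ^ 3 = 1 := by rw [hb, conj_pow, ha]; group
  have hc3 : c ^ 3 = 1 := by rw [hc0, conj_pow, hb3]; group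
  have hy3 : (a * n) ^ 3 = a * b * c := by
    have h1 : (a * n) ^ 3 = a * (n * a * n⁻¹) * (n * (n * a * n⁻¹) * n⁻¹) * n ^ 3 := by
      simp only [pow_succ, pow_zero, one_mul]; group
    rw [h1, hn, mul_one, ← hb, ← hc0]
  have hz3 : (a * b * c) ^ 3 = 1 := by
    rw [(hca.symm.mul_left hbc).mul_pow, hc.mul_pow, ha, hb3, hc3]
    simp
  have hg3 : (b * c ^ 2) ^ 3 = 1 := by
    rw [(hbc.pow_right 2).mul_pow, hb3, ← pow_mul, mul_comm 2 3, pow_mul, hc3]
    simp
  have hng : n * (b * c ^ 2) * n⁻¹ = c * a ^ 2 := by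
    have h1 : n * (b * c ^ 2) * n⁻¹ = (n * b * n⁻¹) * (n * c * n⁻¹) ^ 2 := by
      simp only [pow_succ, pow_zero, one_mul]; group
    rw [h1, ← hc0, hnc]
  have key : b * c ^ 2 * a = a * b * c * a * (c * a ^ 2) := by
    have h1 : a * b * c * a * (c * a ^ 2) = b * c ^ 2 * a ^ 4 := by
      calc a * b * c * a * (c * a ^ 2) = (a * b) * (c * a) * (c * a ^ 2) := by group
        _ = (b * a) * (a * c) * (c * a ^ 2) := by rw [hc.eq, hca.eq]
        _ = b * (a ^ 2 * c ^ 2) * a ^ 2 := by simp only [pow_succ, pow_zero, one_mul]; group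
        _ = b * (c ^ 2 * a ^ 2) * a ^ 2 := by rw [((hca.symm.pow_pow 2 2)).eq]
        _ = b * c ^ 2 * a ^ 4 := by group
    rw [h1, show a ^ 4 = a ^ 3 * a by rw [← pow_succ], ha, one_mul]
  have hgy : b * c ^ 2 * (a * n) * (b * c ^ 2)⁻¹ = a * b * c * (a * n) := by
    rw [mul_inv_eq_iff_eq_mul]
    calc b * c ^ 2 * (a * n) = (b * c ^ 2 * a) * n := by group
      _ = a * b * c * a * (c * a ^ 2) * n := by rw [key]
      _ = a * b * c * a * (n * (b * c ^ 2) * n⁻¹) * n := by rw [hng]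
      _ = a * b * c * (a * n) * (b * c ^ 2) := by group
  refine ⟨a * n, b * c ^ 2, ⟨2, ?_⟩, ⟨1, ?_⟩, ?_, ?_⟩
  · rw [show 3 ^ 2 = 3 * 3 by norm_num, pow_mul, hy3, hz3]
  · rw [pow_one, hg3]
  · rw [hgy, ← hy3, ← pow_succ]
    exact Subgroup.pow_mem _ (Subgroup.mem_zpowers _) _
  · intro h
    rw [h, mul_inv_cancel_right] at hgy
    exact hz (mul_eq_right.1 hgy.symm)

/-! ### The element of order three in `SL₂` -/

section SL

variable {F : Type u} [Field F]

/-- an element of order three -/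
def mm (F : Type u) [Field F] : SpecialLinearGroup (Fin 2) F := up (-3) * lo 1

theorem coe_mm : ((mm F : SpecialLinearGroup (Fin 2) F) : Matrix (Fin 2) (Fin 2) F) = !![-2, -3; 1, 1] := by
  show (!![(1 : F), -3; 0, 1] * !![1, 0; 1, 1] : Matrix (Fin 2) (Fin 2) F) = _
  ext i j
  fin_cases i <;> fin_cases j <;> simp [Matrix.mul_apply, Fin.sum_univ_two] <;> norm_num

theorem mm_three : (mm F) ^ 3 = 1 := by
  apply Subtype.ext
  rw [Matrix.SpecialLinearGroup.coe_pow, coe_mm, pow_succ, pow_two]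
  ext i j
  fin_cases i <;> fin_cases j <;> simp [Matrix.mul_apply, Fin.sum_univ_two] <;> norm_num

end SL

/-! ### Groups of Lie type -/

section Lie

variable {D : ChevalleyDatum} (hD : InList D) {F : Type u} [Field F]

/-- the root homomorphism -/
noncomputable def psi (F : Type u) [Field F] {r : ℕ} (hr : r < D.nroots) :
    SpecialLinearGroup (Fin 2) F →* GL D.Idx F :=
  phi (SL2All.good_of_mem D hD r hr) F

/-- the element of order three of a root -/
noncomputable def aa (F : Type u) [Field F] (r : ℕ) : GL D.Idx F := xG hD r (-3 : F) * xG hD (D.neg r) 1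

theorem psi_mm {r : ℕ} (hr : r < D.nroots) : psi hD F hr (mm F) = aa hD F r := by
  unfold psi mm aa
  rw [map_mul, phi_up hD hr, phi_lo hD hr]

theorem aa_three {r : ℕ} (hr : r < D.nroots) : (aa hD F r) ^ 3 = 1 := by
  rw [← psi_mm hD hr, ← map_pow, mm_three, map_one]

theorem aa_ne {r : ℕ} (hr : r < D.nroots) (h3 : (3 : F) ≠ 0) : ¬ Commute (aa hD F r) (xG hD r 1) := by
  intro h
  have h1 : xG hD r (1 : F) = psi hD F hr (up 1) := (phi_up hD hr 1).symm
  rw [← psi_mm hD hr, h1] at h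
  have h2 : psi hD F hr (mm F * up 1) = psi hD F hr (up 1 * mm F) := by
    rw [map_mul, map_mul]; exact h.eq
  have h4 := (phi_sep (SL2All.good_of_mem D hD r hr) h2).1
  have h5 : (mm F * up 1).1 0 0 = -2 := by
    show (((mm F : SpecialLinearGroup (Fin 2) F) : Matrix (Fin 2) (Fin 2) F) * !![(1 : F), 1; 0, 1]) 0 0 = _
    rw [coe_mm]
    simp [Matrix.mul_apply, Fin.sum_univ_two]
  have h6 : (up 1 * mm F).1 0 0 = -1 := by
    show (!![(1 : F), 1; 0, 1] * ((mm F : SpecialLinearGroup (Fin 2) F) : Matrix (Fin 2) (Fin 2) F)) 0 0 = _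
    rw [coe_mm]
    simp [Matrix.mul_apply, Fin.sum_univ_two]
    norm_num
  rw [h5, h6] at h4
  apply h3
  linear_combination h4

/-- the data of three orthogonal roots permuted by a word in the simple reflections -/
structure WD (D : ChevalleyDatum) (w : List ℕ) (b : ℕ) : Prop where
  lt : b < D.nroots
  nlt : D.neg b < D.nroots
  wlt : ∀ i ∈ w, i < D.rank
  cube : ∀ s < D.nroots, actW D w (actW D w (actW D w s)) = s
  neg : actW D w (D.neg b) = D.neg (actW D w b)
  neg2 : actW D w (actW D w (D.neg b)) = D.neg (actW D w (actW D w b))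
  so1 : SO D b (actW D w b)
  so2 : SO D b (actW D w (actW D w b))

variable {w : List ℕ} {b : ℕ}

theorem nW_conj' (W : WD D w b) {s : ℕ} (hs : s < D.nroots) :
    actW D w s < D.nroots ∧ ∃ η : ℤ, (η = 1 ∨ η = -1) ∧
      ∀ t : F, nW hD F w * xG hD s t * (nW hD F w)⁻¹ = xG hD (actW D w s) ((η : F) * t) :=
  nW_conj hD F (fun _ hi _ hs => NPerm.reflectRoot_lt hD hi hs) w W.wlt hs

theorem nW_conj2 (W : WD D w b) {s : ℕ} (hs : s < D.nroots) :
    actW D w (actW D w s) < D.nroots ∧ ∃ η : ℤ, (η = 1 ∨ η = -1) ∧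
      ∀ t : F, (nW hD F w) ^ 2 * xG hD s t * ((nW hD F w) ^ 2)⁻¹ =
        xG hD (actW D w (actW D w s)) ((η : F) * t) := by
  obtain ⟨h1, η, hη, h2⟩ := nW_conj' (F := F) hD W hs
  obtain ⟨h3, θ, hθ, h4⟩ := nW_conj' (F := F) hD W h1
  refine ⟨h3, θ * η, ?_, fun t => ?_⟩
  · rcases hη with rfl | rfl <;> rcases hθ with rfl | rfl <;> simp
  · have e : (nW hD F w) ^ 2 * xG hD s t * ((nW hD F w) ^ 2)⁻¹ =
        nW hD F w * (nW hD F w * xG hD s t * (nW hD F w)⁻¹) * (nW hD F w)⁻¹ := by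
      simp only [pow_two]; group
    rw [e, h2, h4]
    push_cast
    rw [mul_assoc]

theorem nW_conj3 (W : WD D w b) {s : ℕ} (hs : s < D.nroots) : ∃ η : ℤ, (η = 1 ∨ η = -1) ∧
      ∀ t : F, (nW hD F w) ^ 3 * xG hD s t * ((nW hD F w) ^ 3)⁻¹ = xG hD s ((η : F) * t) := by
  obtain ⟨h1, η, hη, h2⟩ := nW_conj2 (F := F) hD W hs
  obtain ⟨h3, θ, hθ, h4⟩ := nW_conj' (F := F) hD W h1
  refine ⟨θ * η, ?_, fun t => ?_⟩
  · rcases hη with rfl | rfl <;> rcases hθ with rfl | rfl <;> simp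
  · have e : (nW hD F w) ^ 3 * xG hD s t * ((nW hD F w) ^ 3)⁻¹ =
        nW hD F w * ((nW hD F w) ^ 2 * xG hD s t * ((nW hD F w) ^ 2)⁻¹) * (nW hD F w)⁻¹ := by
      simp only [pow_succ, pow_zero, one_mul]; group
    rw [e, h2, h4, W.cube s hs]
    push_cast
    rw [mul_assoc]

theorem nW_conj4 (W : WD D w b) {s : ℕ} (hs : s < D.nroots) :
    actW D w s < D.nroots ∧ ∃ η : ℤ, (η = 1 ∨ η = -1) ∧
      ∀ t : F, (nW hD F w) ^ 4 * xG hD s t * ((nW hD F w) ^ 4)⁻¹ = xG hD (actW D w s) ((η : F) * t) := by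
  obtain ⟨η, hη, h2⟩ := nW_conj3 (F := F) hD W hs
  obtain ⟨h3, θ, hθ, h4⟩ := nW_conj' (F := F) hD W hs
  refine ⟨h3, θ * η, ?_, fun t => ?_⟩
  · rcases hη with rfl | rfl <;> rcases hθ with rfl | rfl <;> simp
  · have e : (nW hD F w) ^ 4 * xG hD s t * ((nW hD F w) ^ 4)⁻¹ =
        nW hD F w * ((nW hD F w) ^ 3 * xG hD s t * ((nW hD F w) ^ 3)⁻¹) * (nW hD F w)⁻¹ := by
      simp only [pow_succ, pow_zero, one_mul]; group
    rw [e, h2, h4]
    push_cast
    rw [mul_assoc]

theorem commute_conj {Γ : Type*} [Group Γ] {g x y : Γ} (h1 : g * x * g⁻¹ = y) {v : Γ} (h : Commute v y) :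
    Commute v (g * x * g⁻¹) := by rwa [h1]

/-- the root elements of strongly orthogonal roots commute -/
theorem comm_aa {r s : ℕ} (h : SO D r s) (t u : F) (g : GL D.Idx F)
    (hg : g = xG hD s t * xG hD (D.neg s) u) : Commute (aa hD F r) g ∧ Commute (xG hD r (1 : F)) g := by
  obtain ⟨h1, h2, h3, h4⟩ := h
  have c1 : ∀ a : F, Commute (xG hD r a) g := by
    intro a
    rw [hg]
    exact Commute.mul_right (comm_of_so hD h1 a t) (comm_of_so hD h2 a u)
  have c2 : ∀ a : F, Commute (xG hD (D.neg r) a) g := by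
    intro a
    rw [hg]
    exact Commute.mul_right (comm_of_so hD h3 a t) (comm_of_so hD h4 a u)
  exact ⟨(c1 _).mul_left (c2 _), c1 _⟩

/-- **`NormP 3` for a group containing the wreath product.** -/
theorem normP (W : WD D w b) (h3 : (3 : F) ≠ 0) {H : Subgroup (GL D.Idx F)} (hn : nW hD F w ∈ H)
    (ha : xG hD b (-3 : F) ∈ H) (ha' : xG hD (D.neg b) (1 : F) ∈ H)
    (hcen : ∀ u ∈ H, (∀ s < D.nroots, ∀ t : F, u * xG hD s t = xG hD s t * u) → u = 1) : NormP 3 ↥H := by
  -- `n ^ 6 = 1`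
  have hn6 : (nW hD F w) ^ 6 = 1 := by
    refine hcen _ (pow_mem hn 6) fun s hs t => ?_
    obtain ⟨η, hη, h1⟩ := nW_conj3 (F := F) hD W hs
    have e : (nW hD F w) ^ 6 * xG hD s t * ((nW hD F w) ^ 6)⁻¹ =
        (nW hD F w) ^ 3 * ((nW hD F w) ^ 3 * xG hD s t * ((nW hD F w) ^ 3)⁻¹) * ((nW hD F w) ^ 3)⁻¹ := by
      simp only [pow_succ, pow_zero, one_mul]; group
    have h2 : (nW hD F w) ^ 6 * xG hD s t * ((nW hD F w) ^ 6)⁻¹ = xG hD s t := by
      rw [e, h1, h1]
      congr 1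
      rcases hη with rfl | rfl <;> simp
    exact mul_inv_eq_iff_eq_mul.1 h2
  set n : GL D.Idx F := (nW hD F w) ^ 4 with hndef
  have hnH : n ∈ H := pow_mem hn 4
  have hn3 : n ^ 3 = 1 := by
    rw [hndef, ← pow_mul, show 4 * 3 = 6 * 2 by norm_num, pow_mul, hn6, one_pow]
  set a : GL D.Idx F := aa hD F b with hadef
  have haH : a ∈ H := mul_mem ha ha'
  have ha3 : a ^ 3 = 1 := aa_three hD W.lt
  -- the conjugates
  obtain ⟨h1, η, hη, e1⟩ := nW_conj4 (F := F) hD W W.lt
  obtain ⟨h1', η', hη', e1'⟩ := nW_conj4 (F := F) hD W W.nlt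
  rw [W.neg] at h1' e1'
  rw [← hndef] at e1 e1'
  have hb : n * a * n⁻¹ = xG hD (actW D w b) ((η : F) * -3) * xG hD (D.neg (actW D w b)) ((η' : F) * 1) := by
    rw [← e1, ← e1', hadef]
    unfold aa
    group
  obtain ⟨h2, θ, hθ, e2⟩ := nW_conj4 (F := F) hD W h1
  obtain ⟨h2', θ', hθ', e2'⟩ := nW_conj4 (F := F) hD W h1'
  have hneg2 : actW D w (D.neg (actW D w b)) = D.neg (actW D w (actW D w b)) := by
    rw [← W.neg]; exact W.neg2
  rw [hneg2] at e2'
  rw [← hndef] at e2 e2'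
  have hc : n * (n * a * n⁻¹) * n⁻¹ = xG hD (actW D w (actW D w b)) ((θ : F) * ((η : F) * -3)) *
      xG hD (D.neg (actW D w (actW D w b))) ((θ' : F) * ((η' : F) * 1)) := by
    rw [hb, ← e2, ← e2']
    group
  obtain ⟨c1, c1'⟩ := comm_aa hD W.so1 _ _ _ hb
  obtain ⟨c2, c2'⟩ := comm_aa hD W.so2 _ _ _ hc
  have key : NormP 3 ↥H := by
    refine normP_of_wreath (n := ⟨n, hnH⟩) (a := ⟨a, haH⟩) (Subtype.ext hn3) (Subtype.ext ha3) ?_ ?_
    · exact Subtype.ext c1.eq
    · intro h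
      have h4 : a * (n * a * n⁻¹) * (n * (n * a * n⁻¹) * n⁻¹) = 1 := congrArg Subtype.val h
      have h5 : a = ((n * a * n⁻¹) * (n * (n * a * n⁻¹) * n⁻¹))⁻¹ := by
        rw [mul_assoc] at h4
        exact eq_inv_of_mul_eq_one_left h4
      refine aa_ne hD W.lt h3 ?_
      show Commute a (xG hD b 1)
      rw [h5]
      exact ((c1'.mul_right c2').inv_right).symm
  exact key

end Lie

/-! ### The data -/

/-- a check that the cube of the word acts trivially -/
def cubeB (D : ChevalleyDatum) (w : List ℕ) : Bool :=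
  (List.range D.nroots).all fun s => Nat.beq (actW D w (actW D w (actW D w s))) s

theorem of_cubeB {D : ChevalleyDatum} {w : List ℕ} (h : cubeB D w = true) :
    ∀ s < D.nroots, actW D w (actW D w (actW D w s)) = s := by
  intro s hs
  exact Nat.eq_of_beq_eq_true (List.all_eq_true.1 h s (List.mem_range.2 hs))

theorem wd_F4 : WD chevF4 [0, 1] (chevF4.simple 2) where
  lt := by decide +kernel
  nlt := by decide +kernel
  wlt := by decide
  cube := of_cubeB (by decide +kernel)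
  neg := by decide +kernel
  neg2 := by decide +kernel
  so1 := by decide +kernel
  so2 := by decide +kernel

theorem wd_E6 : WD chevE6 [0, 5, 2, 4] (chevE6.simple 3) where
  lt := by decide +kernel
  nlt := by decide +kernel
  wlt := by decide
  cube := of_cubeB (by decide +kernel)
  neg := by decide +kernel
  neg2 := by decide +kernel
  so1 := by decide +kernel
  so2 := by decide +kernel

set_option maxHeartbeats 4000000 in
theorem wd_E7 : WD chevE7 [0, 5, 2, 4] (chevE7.simple 3) where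
  lt := by decide +kernel
  nlt := by decide +kernel
  wlt := by decide
  cube := of_cubeB (by decide +kernel)
  neg := by decide +kernel
  neg2 := by decide +kernel
  so1 := by decide +kernel
  so2 := by decide +kernel

set_option maxHeartbeats 4000000 in
theorem wd_E8 : WD chevE8 [0, 5, 2, 4] (chevE8.simple 3) where
  lt := by decide +kernel
  nlt := by decide +kernel
  wlt := by decide
  cube := of_cubeB (by decide +kernel)
  neg := by decide +kernel
  neg2 := by decide +kernel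
  so1 := by decide +kernel
  so2 := by decide +kernel

end Cfsg.Agent.H631.Wreath
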